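import Groth.Prelude.Def_P1
import Groth.Agent.CurveLib.ProjLine
import Groth.Agent.P1Lib24.Basic
import Groth.Agent.PruferLib.ProjVanish
import Groth.Agent.Coherent.ProjSpaceBase
import Groth.Agent.Coherent.ProjSpaceFinite

/-! The projective line over an integral affine scheme and over a field. -/

set_option autoImplicit false
set_option backward.isDefEq.respectTransparency.types false
set_option linter.style.haveILetI false

universe u

open CategoryTheory CategoryTheory.Limits AlgebraicGeometry

namespace Groth.Agent.REqLib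

/-- `P¹` over an affine scheme as a `Proj`. -/
theorem exists_projOverIso (R : Type u) [CommRing R] :
    ∃ e : CohB1.ProjSpaceOver 1 (Spec (CommRingCat.of R)) ≅ CohB1.ProjSpace 1 R,
      e.hom ≫ CohB1.ProjSpace.toSpec 1 R = CohB1.ProjSpaceOver.toBase 1 (Spec (CommRingCat.of R)) := by
  letI : Algebra (ULift.{u} ℤ) R := ((Int.castRingHom R).comp ULift.ringEquiv.toRingHom).toAlgebra
  have h' := Coherent.isPullback_projSpace 1 (ULift.{u} ℤ) R
  have hm : Spec.map (CommRingCat.ofHom (algebraMap (ULift.{u} ℤ) R)) =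
      specULiftZIsTerminal.from (Spec (CommRingCat.of R)) := specULiftZIsTerminal.hom_ext _ _
  rw [hm] at h'
  refine ⟨(IsPullback.of_hasPullback _ _).isoIsPullback _ _ h', ?_⟩
  exact IsPullback.isoIsPullback_hom_snd _ _ _ _

theorem isPullback_toP1 {X Y : Scheme.{u}} (g : X ⟶ Y) :
    IsPullback (P1.toP1 g) (CohB1.ProjSpaceOver.toBase 1 X) (CohB1.ProjSpaceOver.toBase 1 Y) g := by
  refine IsPullback.of_right ?_ ?_ (IsPullback.of_hasPullback (CohB1.ProjSpace.toSpec 1 (ULift.{u} ℤ))
    (specULiftZIsTerminal.from Y))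
  · rw [show P1.toP1 g ≫ pullback.fst _ _ = pullback.fst (CohB1.ProjSpace.toSpec 1 (ULift.{u} ℤ))
      (specULiftZIsTerminal.from X) from (pullback.lift_fst _ _ _).trans (Category.comp_id _),
      show g ≫ specULiftZIsTerminal.from Y = specULiftZIsTerminal.from X from specULiftZIsTerminal.hom_ext _ _]
    exact IsPullback.of_hasPullback _ _
  · exact pullback.lift_snd _ _ _

theorem toP1_toBase {X Y : Scheme.{u}} (g : X ⟶ Y) :
    P1.toP1 g ≫ CohB1.ProjSpaceOver.toBase 1 Y = CohB1.ProjSpaceOver.toBase 1 X ≫ g :=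
  (isPullback_toP1 g).w

theorem toP1_comp {X Y Z : Scheme.{u}} (g : X ⟶ Y) (g' : Y ⟶ Z) :
    P1.toP1 (g ≫ g') = P1.toP1 g ≫ P1.toP1 g' := by
  apply pullback.hom_ext
  · show _ = (pullback.lift _ _ _ ≫ pullback.lift _ _ _) ≫ pullback.fst _ _
    rw [Category.assoc, pullback.lift_fst]; simp only [P1.toP1, pullback.map, Category.comp_id]; exact (pullback.lift_fst _ _ _).trans (pullback.lift_fst _ _ _).symm
  · show _ = (pullback.lift _ _ _ ≫ pullback.lift _ _ _) ≫ pullback.snd _ _
    rw [Category.assoc, pullback.lift_snd]; simp only [P1.toP1, pullback.map]; exact (pullback.lift_snd _ _ _).trans ((Category.assoc _ _ _).symm.trans ((congrArg (fun t => t ≫ g') (pullback.lift_snd _ _ _)).symm.trans (Category.assoc _ _ _)))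

instance isProper_toBase (S : Scheme.{u}) : IsProper (CohB1.ProjSpaceOver.toBase 1 S) :=
  MorphismProperty.pullback_snd _ _ (Coherent.isProper_projSpace_toSpec 1 (ULift.{u} ℤ))

instance smooth_toBase (S : Scheme.{u}) : Smooth (CohB1.ProjSpaceOver.toBase 1 S) :=
  MorphismProperty.pullback_snd _ _ (P1Lib24.smooth_projLine (ULift.{u} ℤ))

instance isOpenImmersion_toP1 {X Y : Scheme.{u}} (g : X ⟶ Y) [IsOpenImmersion g] : IsOpenImmersion (P1.toP1 g) :=
  MorphismProperty.of_isPullback (isPullback_toP1 g).flip inferInstance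

instance isPreimmersion_toP1 {X Y : Scheme.{u}} (g : X ⟶ Y) [IsPreimmersion g] : IsPreimmersion (P1.toP1 g) :=
  MorphismProperty.of_isPullback (isPullback_toP1 g).flip inferInstance

theorem isIntegral_projOver_spec (R : Type u) [CommRing R] [IsDomain R] :
    IsIntegral (CohB1.ProjSpaceOver 1 (Spec (CommRingCat.of R))) := by
  obtain ⟨e, -⟩ := exists_projOverIso R
  haveI : IsIntegral (CohB1.ProjSpace 1 R) := PruferLib.ProjVanish.isIntegral_projSpace
  haveI : Nonempty (CohB1.ProjSpaceOver 1 (Spec (CommRingCat.of R))) :=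
    ⟨e.inv (genericPoint (CohB1.ProjSpace 1 R))⟩
  exact isIntegral_of_isOpenImmersion e.hom

theorem isIntegral_projOver (S : Scheme.{u}) [IsAffine S] [IsIntegral S] :
    IsIntegral (CohB1.ProjSpaceOver 1 S) := by
  haveI := isIntegral_projOver_spec Γ(S, ⊤)
  haveI : Nonempty (CohB1.ProjSpaceOver 1 S) :=
    ⟨P1.sect S 0 (genericPoint S)⟩
  exact isIntegral_of_isOpenImmersion (P1.toP1 S.isoSpec.hom)

theorem isIntegral_projOver_field (K : Type u) [Field K] :
    IsIntegral (CohB1.ProjSpaceOver 1 (Spec (CommRingCat.of K))) := isIntegral_projOver_spec K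

theorem ringKrullDim_stalk_le_one (K : Type u) [Field K] (x : CohB1.ProjSpaceOver 1 (Spec (CommRingCat.of K))) :
    ringKrullDim ((CohB1.ProjSpaceOver 1 (Spec (CommRingCat.of K))).presheaf.stalk x) ≤ 1 := by
  obtain ⟨e, -⟩ := exists_projOverIso K
  have hbij : Function.Bijective (e.hom.stalkMap x) := ConcreteCategory.bijective_of_isIso _
  rw [← ringKrullDim_eq_of_ringEquiv (RingEquiv.ofBijective (e.hom.stalkMap x).hom hbij)]
  haveI := CurveLib.isIntegral_projSpace K 1
  haveI : JacobsonSpace (CohB1.ProjSpace 1 K) := LocallyOfFiniteType.jacobsonSpace (CohB1.ProjSpace.toSpec 1 K)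
  obtain ⟨c, hcx, hc⟩ := nonempty_inter_closedPoints (X := CohB1.ProjSpace 1 K) (Z := closure {e.hom x})
    (Set.Nonempty.closure ⟨_, rfl⟩) isClosed_closure.isLocallyClosed
  refine le_trans ?_ (CurveLib.ringKrullDim_projLine K c hc).le
  rw [ringKrullDim_stalk_eq_coheight, ringKrullDim_stalk_eq_coheight]
  exact_mod_cast Order.coheight_anti (show c ≤ e.hom x from specializes_iff_mem_closure.mpr hcx)

/-- A preimmersion between integral schemes hitting the generic point is bijective on stalks. -/
theorem bijective_stalkMap {P Q : Scheme.{u}} [IsIntegral P] [IsIntegral Q] (g : P ⟶ Q) [IsPreimmersion g]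
    (hg : g (genericPoint P) = genericPoint Q) (x : P) : Function.Bijective (g.stalkMap x) := by
  refine ⟨?_, g.stalkMap_surjective x⟩
  have hgen : Function.Injective (g.stalkMap (genericPoint P)) := by
    have hf : IsField (Q.presheaf.stalk (g (genericPoint P))) :=
      hg ▸ (Field.toIsField Q.functionField)
    letI := hf.toField
    exact (g.stalkMap (genericPoint P)).hom.injective
  intro a b hab
  have hsp : genericPoint P ⤳ x := genericPoint_specializes x
  have hsq : g (genericPoint P) ⤳ g x := hsp.map g.continuous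
  have hinj : Function.Injective (Q.presheaf.stalkSpecializes hsq) := by
    have h1 : (genericPoint Q : Q) ⤳ g x := genericPoint_specializes _
    have h2 : Function.Injective (algebraMap (Q.presheaf.stalk (g x)) Q.functionField) :=
      IsFractionRing.injective _ _
    intro a b hab
    apply h2
    have h3 := congrArg (Q.presheaf.stalkSpecializes (specializes_of_eq hg.symm)) hab
    show Q.presheaf.stalkSpecializes h1 a = Q.presheaf.stalkSpecializes h1 b
    have e := TopCat.Presheaf.stalkSpecializes_comp Q.presheaf (specializes_of_eq hg.symm) hsq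
    exact ((ConcreteCategory.congr_hom e a).symm.trans h3).trans (ConcreteCategory.congr_hom e b)
  apply hinj
  apply hgen
  have h := congrArg (P.presheaf.stalkSpecializes hsp) hab
  have e := Scheme.Hom.stalkSpecializes_stalkMap g (genericPoint P) x hsp
  exact ((ConcreteCategory.congr_hom e a).trans h).trans (ConcreteCategory.congr_hom e b).symm

end Groth.Agent.REqLib
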