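import Groth.Prelude.Def_W4c5nonratstablectREq
import Groth.Agent.REqLib.ProjLineGen
import Groth.Agent.H8Lim.SpreadOut
import Groth.Agent.RatExtLib.DimOne
import Groth.Agent.VarietyLib.SmoothStalk

/-! A functor invariant under `P¹` cannot separate directly linked points at the generic point. -/

set_option autoImplicit false
set_option backward.isDefEq.respectTransparency.types false
set_option linter.style.haveILetI false
set_option linter.unusedSectionVars false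

universe u v

open CategoryTheory CategoryTheory.Limits AlgebraicGeometry IsLocalRing

namespace Groth.Agent.REqLib

open Groth.Agent.H8Lim

/-- Extend a morphism from the local scheme at a point. -/
theorem exists_spread {Y Z S : Scheme.{u}} (sY : Y ⟶ S) (sZ : Z ⟶ S) [LocallyOfFinitePresentation sZ] {y : Y}
    (m : Spec (Y.presheaf.stalk y) ⟶ Z) (hm : m ≫ sZ = Y.fromSpecStalk y ≫ sY) :
    ∃ (U : Y.Opens) (hy : y ∈ U) (g : U.toScheme ⟶ Z),
      U.fromSpecStalkOfMem y hy ≫ g = m ∧ g ≫ sZ = U.ι ≫ sY := by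
  have e : sY y = sZ (m (closedPoint (Y.presheaf.stalk y))) := by
    have := congr($hm (closedPoint (Y.presheaf.stalk y)))
    simp only [Scheme.Hom.comp_apply, Scheme.fromSpecStalk_closedPoint] at this
    exact this.symm
  obtain ⟨U, hy, g, hg, hg'⟩ := spread_out sY sZ (x := y) (y := m (closedPoint (Y.presheaf.stalk y))) e
    (Scheme.stalkClosedPointTo m) (by
      apply Spec.map_injective
      rw [← cancel_mono (S.fromSpecStalk _), Spec.map_comp, Spec.map_comp, Category.assoc, Category.assoc,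
        Scheme.SpecMap_stalkMap_fromSpecStalk, Scheme.Spec_stalkClosedPointTo_fromSpecStalk_assoc, hm,
        Scheme.SpecMap_stalkSpecializes_fromSpecStalk, Scheme.SpecMap_stalkMap_fromSpecStalk])
  refine ⟨U, hy, g, ?_, hg'⟩
  rw [← hg, Scheme.Spec_stalkClosedPointTo_fromSpecStalk]

variable {k : Type u} [Field k] (Φ : (Over (Spec (CommRingCat.of k)))ᵒᵖ ⥤ Type v)
  {X : Scheme.{u}} (f : X ⟶ Spec (CommRingCat.of k)) [IsIntegral X] [IsProper f]

/-- Two points over the generic point extend with the same pullback. -/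
def SameImage (A B : Spec X.functionField ⟶ X) : Prop :=
  ∃ (W : X.Opens) (h : genericPoint X ∈ W) (α β : W.toScheme ⟶ X) (hα : α ≫ f = W.ι ≫ f)
    (hβ : β ≫ f = W.ι ≫ f), W.fromSpecStalkOfMem _ h ≫ α = A ∧ W.fromSpecStalkOfMem _ h ≫ β = B ∧
      ∀ t, Φ.map (Over.homMk α hα : Over.mk (W.ι ≫ f) ⟶ Over.mk f).op t =
        Φ.map (Over.homMk β hβ : Over.mk (W.ι ≫ f) ⟶ Over.mk f).op t

theorem map_restrict {W W' : X.Opens} (h : W' ≤ W) (α : W.toScheme ⟶ X) (hα : α ≫ f = W.ι ≫ f)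
    (α' : W'.toScheme ⟶ X) (hα' : α' ≫ f = W'.ι ≫ f) (e : X.homOfLE h ≫ α = α') (t : Φ.obj (Opposite.op (Over.mk f))) :
    Φ.map (Over.homMk α' hα' : Over.mk (W'.ι ≫ f) ⟶ Over.mk f).op t =
      Φ.map (Over.homMk (X.homOfLE h) (by simp) : Over.mk (W'.ι ≫ f) ⟶ Over.mk (W.ι ≫ f)).op
        (Φ.map (Over.homMk α hα : Over.mk (W.ι ≫ f) ⟶ Over.mk f).op t) := by
  rw [← ConcreteCategory.comp_apply, ← Functor.map_comp, ← op_comp]
  congr 4
  exact Over.OverMorphism.ext e.symm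

theorem sameImage_symm {A B : Spec X.functionField ⟶ X} (h : SameImage Φ f A B) : SameImage Φ f B A := by
  obtain ⟨W, hW, α, β, hα, hβ, h₁, h₂, h₃⟩ := h
  exact ⟨W, hW, β, α, hβ, hα, h₂, h₁, fun t => (h₃ t).symm⟩

theorem sameImage_refl (A : Spec X.functionField ⟶ X)
    (hA : A ≫ f = X.fromSpecStalk (genericPoint X) ≫ f) : SameImage Φ f A A := by
  obtain ⟨W, hW, α, h₁, h₂⟩ := exists_spread f f (y := genericPoint X) A hA
  exact ⟨W, hW, α, α, h₂, h₂, h₁, h₁, fun _ => rfl⟩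

theorem sameImage_trans {A B C : Spec X.functionField ⟶ X} (h : SameImage Φ f A B) (h' : SameImage Φ f B C) :
    SameImage Φ f A C := by
  obtain ⟨W, hW, α, β, hα, hβ, h₁, h₂, h₃⟩ := h
  obtain ⟨W', hW', β', γ, hβ', hγ, h₂', h₄, h₅⟩ := h'
  have hW₀ : genericPoint X ∈ W ⊓ W' := ⟨hW, hW'⟩
  obtain ⟨W₁, hle, hm, heq⟩ := exists_le_of_fromSpecStalkOfMem_eq f hW₀ (X.homOfLE inf_le_left ≫ β)
    (X.homOfLE inf_le_right ≫ β')
    (by rw [Category.assoc, Category.assoc, hβ, hβ', Scheme.homOfLE_ι_assoc, Scheme.homOfLE_ι_assoc])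
    (by rw [reassoc_of% fromSpecStalkOfMem_homOfLE (inf_le_left : W ⊓ W' ≤ W) hW₀,
          reassoc_of% fromSpecStalkOfMem_homOfLE (inf_le_right : W ⊓ W' ≤ W') hW₀, h₂, h₂'])
  rw [Scheme.homOfLE_homOfLE_assoc, Scheme.homOfLE_homOfLE_assoc] at heq
  refine ⟨W₁, hm, X.homOfLE (hle.trans inf_le_left) ≫ α, X.homOfLE (hle.trans inf_le_right) ≫ γ,
    by rw [Category.assoc, hα, Scheme.homOfLE_ι_assoc], by rw [Category.assoc, hγ, Scheme.homOfLE_ι_assoc],
    by rw [reassoc_of% fromSpecStalkOfMem_homOfLE _ hm, h₁],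
    by rw [reassoc_of% fromSpecStalkOfMem_homOfLE _ hm, h₄], fun t => ?_⟩
  rw [map_restrict Φ f (hle.trans inf_le_left) α hα _ _ rfl t, h₃ t,
    map_restrict Φ f (hle.trans inf_le_right) γ hγ _ _ rfl t, ← h₅ t,
    ← map_restrict Φ f (hle.trans inf_le_left) β hβ (X.homOfLE (hle.trans inf_le_left) ≫ β)
      (by rw [Category.assoc, hβ, Scheme.homOfLE_ι_assoc]) rfl t,
    ← map_restrict Φ f (hle.trans inf_le_right) β' hβ' (X.homOfLE (hle.trans inf_le_right) ≫ β')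
      (by rw [Category.assoc, hβ', Scheme.homOfLE_ι_assoc]) rfl t]
  congr 4
  exact Over.OverMorphism.ext heq

variable (hΦ : ∀ (Y : Scheme.{u}) (g : Y ⟶ Spec (CommRingCat.of k)) [IsIntegral Y] [Smooth g]
      [IsSeparated g] [QuasiCompact g],
      Function.Bijective (Φ.map (Over.homMk (CohB1.ProjSpaceOver.toBase 1 Y) rfl :
        Over.mk (CohB1.ProjSpaceOver.toBase 1 Y ≫ g) ⟶ Over.mk g).op))

include hΦ in
/-- The pullbacks along two sections of `P¹` agree. -/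
theorem map_section_eq (Y : Scheme.{u}) (g : Y ⟶ Spec (CommRingCat.of k)) [IsIntegral Y] [Smooth g]
    [IsSeparated g] [QuasiCompact g] (s s' : Y ⟶ CohB1.ProjSpaceOver 1 Y)
    (hs : s ≫ CohB1.ProjSpaceOver.toBase 1 Y = 𝟙 Y) (hs' : s' ≫ CohB1.ProjSpaceOver.toBase 1 Y = 𝟙 Y)
    (t : Φ.obj (Opposite.op (Over.mk (CohB1.ProjSpaceOver.toBase 1 Y ≫ g)))) :
    Φ.map (Over.homMk s (show s ≫ CohB1.ProjSpaceOver.toBase 1 Y ≫ g = g by rw [reassoc_of% hs]) :
        Over.mk g ⟶ Over.mk (CohB1.ProjSpaceOver.toBase 1 Y ≫ g)).op t =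
      Φ.map (Over.homMk s' (show s' ≫ CohB1.ProjSpaceOver.toBase 1 Y ≫ g = g by rw [reassoc_of% hs']) :
        Over.mk g ⟶ Over.mk (CohB1.ProjSpaceOver.toBase 1 Y ≫ g)).op t := by
  obtain ⟨t₀, rfl⟩ := (hΦ Y g).2 t
  rw [← ConcreteCategory.comp_apply, ← Functor.map_comp, ← op_comp,
    ← ConcreteCategory.comp_apply, ← Functor.map_comp, ← op_comp]
  congr 4
  exact Over.OverMorphism.ext (hs.trans hs'.symm)

include hΦ in
/-- Directly linked points have the same image. -/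
theorem sameImage_of_elemLink [Algebra k X.functionField]
    (halg : X.fromSpecStalk (genericPoint X) ≫ f = REq.specMap k X.functionField)
    {V : X.Opens} (hV : genericPoint X ∈ V) [Smooth (V.ι ≫ f)]
    (A B : REq.Pts f X.functionField) (h : REq.ElemLink f X.functionField A B) : SameImage Φ f A.1 B.1 := by
  obtain ⟨W₀, h, a, b, hh, ha, hb, rfl', rfl''⟩ := h
  haveI : IsLocallyNoetherian X := LocallyOfFiniteType.isLocallyNoetherian f
  haveI : LocallyOfFinitePresentation f := LocallyOfFinitePresentation.iff_locallyOfFiniteType.2 inferInstance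
  let η := genericPoint X
  let P := CohB1.ProjSpaceOver 1 (Spec X.functionField)
  haveI : IsIntegral P := isIntegral_projOver_field X.functionField
  obtain ⟨V₁, hV₁, hη₁, hle₁⟩ := exists_isAffineOpen_mem_and_subset (x := η) (U := V) hV
  haveI : IsAffine V₁.toScheme := hV₁
  haveI : Nonempty V₁.toScheme := ⟨⟨η, hη₁⟩⟩
  haveI : IsIntegral (CohB1.ProjSpaceOver 1 V₁.toScheme) := isIntegral_projOver V₁.toScheme
  let Q := CohB1.ProjSpaceOver 1 V₁.toScheme
  haveI : Smooth (V₁.ι ≫ f) := by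
    rw [← X.homOfLE_ι hle₁, Category.assoc]
    infer_instance
  let sQ : Q ⟶ Spec (CommRingCat.of k) := CohB1.ProjSpaceOver.toBase 1 V₁.toScheme ≫ V₁.ι ≫ f
  haveI : Smooth sQ := inferInstanceAs (Smooth (_ ≫ _))
  haveI : IsLocallyNoetherian Q := LocallyOfFiniteType.isLocallyNoetherian sQ
  let j : Spec X.functionField ⟶ V₁.toScheme := V₁.fromSpecStalkOfMem η hη₁
  haveI : IsPreimmersion j := by
    haveI : IsPreimmersion (j ≫ V₁.ι) := by
      rw [Scheme.Opens.fromSpecStalkOfMem_ι]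
      infer_instance
    exact IsPreimmersion.of_comp j V₁.ι
  let p : P ⟶ Q := P1.toP1 j
  have hjf : j ≫ V₁.ι ≫ f = REq.specMap k X.functionField := by
    rw [Scheme.Opens.fromSpecStalkOfMem_ι_assoc]
    exact halg
  have hp : p ≫ sQ = REq.P1K.toSpec X.functionField ≫ REq.specMap k X.functionField := by
    show P1.toP1 j ≫ _ ≫ _ ≫ _ = _
    rw [reassoc_of% toP1_toBase, hjf]
    rfl
  -- generic point to generic point
  have hη' : (⟨η, hη₁⟩ : V₁.toScheme) = genericPoint V₁.toScheme := by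
    refine Subtype.ext ?_
    have h1 : V₁.ι (genericPoint V₁.toScheme) ⤳ η :=
      (genericPoint_specializes (α := V₁.toScheme) ⟨η, hη₁⟩).map V₁.ι.continuous
    exact ((genericPoint_specializes (α := X) _).antisymm h1).eq
  have hover : ∀ q : Q, CohB1.ProjSpaceOver.toBase 1 V₁.toScheme q = ⟨η, hη₁⟩ → ∃ x : P, p x = q := fun q hq => by
    obtain ⟨z, hz, -⟩ := Scheme.Pullback.exists_preimage_pullback (f := CohB1.ProjSpaceOver.toBase 1 V₁.toScheme)
      (g := j) q (closedPoint X.functionField) (by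
        rw [hq]
        refine Subtype.ext ?_
        have := congr($(V₁.fromSpecStalkOfMem_ι η hη₁) (closedPoint X.functionField))
        exact (this.trans Scheme.fromSpecStalk_closedPoint).symm)
    refine ⟨(isPullback_toP1 j).isoPullback.inv z, ?_⟩
    rw [← hz, ← Scheme.Hom.comp_apply, IsPullback.isoPullback_inv_fst]
  have hξ : CohB1.ProjSpaceOver.toBase 1 V₁.toScheme (genericPoint Q) = ⟨η, hη₁⟩ := by
    rw [hη']
    refine ((genericPoint_specializes _).antisymm ?_).eq.symm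
    have h1 := (genericPoint_specializes (P1.sect V₁.toScheme 0 (genericPoint V₁.toScheme))).map
      (CohB1.ProjSpaceOver.toBase 1 V₁.toScheme).continuous
    rwa [← Scheme.Hom.comp_apply, P1Lib24.sect_toBase] at h1
  have hpγ : p (genericPoint P) = genericPoint Q := by
    obtain ⟨x, hx⟩ := hover _ hξ
    refine (Specializes.antisymm ?_ (genericPoint_specializes _)).eq
    rw [← hx]
    exact (genericPoint_specializes x).map p.continuous
  -- the rational map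
  have hγW : genericPoint P ∈ W₀ := by
    have hne : ((W₀ : Set P)).Nonempty :=
      ⟨_, (a (closedPoint X.functionField)).2⟩
    exact (genericPoint_spec P).mem_open_set_iff W₀.isOpen |>.2 (by simpa using hne)
  haveI : IsIso (p.stalkMap (genericPoint P)) :=
    (ConcreteCategory.isIso_iff_bijective _).2 (bijective_stalkMap p hpγ _)
  let c : Spec (Q.presheaf.stalk (p (genericPoint P))) ⟶ X :=
    Spec.map (inv (p.stalkMap (genericPoint P))) ≫ W₀.fromSpecStalkOfMem _ hγW ≫ h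
  obtain ⟨U, hU, g, hg, hgf⟩ := exists_spread sQ f (y := p (genericPoint P)) c (by
    rw [← cancel_epi (Spec.map (p.stalkMap (genericPoint P)))]
    simp only [c, Category.assoc, ← Spec.map_comp_assoc, IsIso.inv_hom_id, Spec.map_id, Category.id_comp,
      Scheme.SpecMap_stalkMap_fromSpecStalk_assoc, hh, Scheme.Opens.fromSpecStalkOfMem_ι_assoc, hp]
    rfl)
  have hUd : Dense (U : Set Q) := U.isOpen.dense ⟨_, hU⟩
  have hreg : ∀ y : Q, ringKrullDim (Q.presheaf.stalk y) ≤ 1 → IsRegularLocalRing (Q.presheaf.stalk y) :=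
    fun y _ => VarietyLib.isRegularLocalRing_stalk_of_smooth k Q sQ y
  obtain ⟨U', hUU', s', hs', hres, hmem⟩ := RatExtLib.exists_extension_dimOne hreg (pullback.snd f sQ)
    (pullback.snd f sQ).isClosedMap U hUd (pullback.lift g U.ι hgf) (pullback.lift_snd _ _ _)
  let g' : U'.toScheme ⟶ X := s' ≫ pullback.fst f sQ
  have hg' : g' ≫ f = U'.ι ≫ sQ := by
    show (s' ≫ _) ≫ _ = _
    rw [Category.assoc, pullback.condition, reassoc_of% hs']
  have hgg' : Q.homOfLE hUU' ≫ g' = g := by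
    show _ ≫ s' ≫ _ = _
    rw [reassoc_of% hres, pullback.lift_fst]
  -- shrink the base
  let bad : Set V₁.toScheme := CohB1.ProjSpaceOver.toBase 1 V₁.toScheme '' (U' : Set Q)ᶜ
  have hbad : IsClosed bad := (CohB1.ProjSpaceOver.toBase 1 V₁.toScheme).isClosedMap _ U'.isOpen.isClosed_compl
  have hηbad : (⟨η, hη₁⟩ : V₁.toScheme) ∉ bad := by
    rintro ⟨q, hq, hqη⟩
    obtain ⟨x, rfl⟩ := hover q hqη
    refine hq (hmem _ ?_)
    rw [ringKrullDim_eq_of_ringEquiv (RingEquiv.ofBijective (p.stalkMap x).hom (bijective_stalkMap p hpγ x))]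
    exact ringKrullDim_stalk_le_one X.functionField x
  let V₂ : X.Opens := V₁.ι ''ᵁ ⟨badᶜ, hbad.isOpen_compl⟩
  have hη₂ : η ∈ V₂ := ⟨⟨η, hη₁⟩, hηbad, rfl⟩
  have hle₂ : V₂ ≤ V₁ := V₁.ι_image_le _
  have hrange : Set.range (P1.toP1 (X.homOfLE hle₂)) ⊆ Set.range U'.ι := by
    rintro _ ⟨z, rfl⟩
    rw [Scheme.Opens.range_ι]
    by_contra hz
    have h1 : CohB1.ProjSpaceOver.toBase 1 V₁.toScheme (P1.toP1 (X.homOfLE hle₂) z) ∈ bad := ⟨_, hz, rfl⟩
    rw [← Scheme.Hom.comp_apply, toP1_toBase, Scheme.Hom.comp_apply] at h1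
    obtain ⟨w, hw, hwz⟩ := (CohB1.ProjSpaceOver.toBase 1 V₂.toScheme z).2
    refine hw ?_
    convert h1
    exact Subtype.ext (hwz.trans (X.homOfLE_apply hle₂ _).symm)
  let Q₂ := CohB1.ProjSpaceOver 1 V₂.toScheme
  let l : Q₂ ⟶ U'.toScheme := IsOpenImmersion.lift U'.ι (P1.toP1 (X.homOfLE hle₂)) hrange
  let G : Q₂ ⟶ X := l ≫ g'
  have hG : G ≫ f = CohB1.ProjSpaceOver.toBase 1 V₂.toScheme ≫ V₂.ι ≫ f := by
    show (l ≫ g') ≫ f = _
    rw [Category.assoc, hg', IsOpenImmersion.lift_fac_assoc]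
    show _ ≫ _ ≫ _ ≫ _ = _
    rw [reassoc_of% toP1_toBase, Scheme.homOfLE_ι_assoc]
  let j₂ : Spec X.functionField ⟶ V₂.toScheme := V₂.fromSpecStalkOfMem η hη₂
  let p₂ : P ⟶ Q₂ := P1.toP1 j₂
  have hpp : p₂ ≫ P1.toP1 (X.homOfLE hle₂) = p := by
    show P1.toP1 j₂ ≫ _ = P1.toP1 j
    rw [← toP1_comp, fromSpecStalkOfMem_homOfLE hle₂ hη₂]
  haveI : IsSeparated f := inferInstance
  haveI : IsIntegral W₀.toScheme :=
    haveI : Nonempty W₀.toScheme := ⟨⟨_, hγW⟩⟩
    inferInstance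
  have hagree : W₀.ι ≫ p₂ ≫ G = h := by
    have hover' : (W₀.ι ≫ p₂ ≫ G) ≫ f = h ≫ f := by
      rw [Category.assoc, Category.assoc, hG, reassoc_of% toP1_toBase, Scheme.Opens.fromSpecStalkOfMem_ι_assoc, hh,
        halg]
      rfl
    obtain ⟨W', hle', hγ', hW'⟩ := exists_le_of_fromSpecStalkOfMem_eq f hγW (W₀.ι ≫ p₂ ≫ G) h hover' (by
      have h1 : Spec.map (p.stalkMap (genericPoint P)) ≫ U.fromSpecStalkOfMem _ hU ≫ Q.homOfLE hUU' =
          P.fromSpecStalk (genericPoint P) ≫ p₂ ≫ l := by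
        rw [← cancel_mono U'.ι]
        simp only [Category.assoc, Scheme.homOfLE_ι, Scheme.Opens.fromSpecStalkOfMem_ι, l, IsOpenImmersion.lift_fac]
        rw [hpp, Scheme.SpecMap_stalkMap_fromSpecStalk]
      rw [Scheme.Opens.fromSpecStalkOfMem_ι_assoc]
      show P.fromSpecStalk (genericPoint P) ≫ p₂ ≫ l ≫ g' = _
      rw [← reassoc_of% h1, hgg', hg]
      simp only [c, ← Spec.map_comp_assoc, IsIso.inv_hom_id, Spec.map_id, Category.id_comp])
    haveI : IsDominant (P.homOfLE hle') := by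
      constructor
      haveI : Nonempty W'.toScheme := ⟨⟨_, hγ'⟩⟩
      exact (P.homOfLE hle').isOpenEmbedding.isOpen_range.dense (Set.range_nonempty _)
    exact ext_of_isDominant_of_isSeparated f hover' (P.homOfLE hle') hW'
  -- spread the two sections
  have hsec : ∀ c : Spec X.functionField ⟶ W₀.toScheme, c ≫ W₀.ι ≫ REq.P1K.toSpec X.functionField = 𝟙 _ →
      ∃ (W : X.Opens) (hW : η ∈ W) (hWV : W ≤ V₂) (s : W.toScheme ⟶ CohB1.ProjSpaceOver 1 W.toScheme),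
        s ≫ CohB1.ProjSpaceOver.toBase 1 W.toScheme = 𝟙 _ ∧
        W.fromSpecStalkOfMem η hW ≫ s ≫ P1.toP1 (X.homOfLE hWV) ≫ G = c ≫ h := by
    intro c hc
    have hcm : (c ≫ W₀.ι ≫ p₂) ≫ CohB1.ProjSpaceOver.toBase 1 V₂.toScheme ≫ V₂.ι =
        X.fromSpecStalk η ≫ 𝟙 X := by
      rw [Category.assoc, Category.assoc, reassoc_of% toP1_toBase]
      refine Eq.trans (b := j₂ ≫ V₂.ι) ?_ ((Scheme.Opens.fromSpecStalkOfMem_ι V₂ η hη₂).trans (Category.comp_id _).symm)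
      have := congrArg (fun t => t ≫ j₂ ≫ V₂.ι) hc
      simp only [Category.assoc, Category.id_comp] at this
      exact this
    haveI : LocallyOfFinitePresentation (CohB1.ProjSpaceOver.toBase 1 V₂.toScheme ≫ V₂.ι) := inferInstance
    obtain ⟨W, hW, s, hs, hs'⟩ := exists_spread (𝟙 X) (CohB1.ProjSpaceOver.toBase 1 V₂.toScheme ≫ V₂.ι)
      (y := η) (c ≫ W₀.ι ≫ p₂) hcm
    rw [Category.comp_id] at hs'
    have hWV : W ≤ V₂ := fun x hx => by
      have h1 := congr($hs' (⟨x, hx⟩ : W.toScheme))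
      simp only [Scheme.Hom.comp_apply] at h1
      show (W.ι (⟨x, hx⟩ : W.toScheme)) ∈ V₂
      rw [← h1]
      exact (CohB1.ProjSpaceOver.toBase 1 V₂.toScheme (s ⟨x, hx⟩)).2
    have hs'' : s ≫ CohB1.ProjSpaceOver.toBase 1 V₂.toScheme = 𝟙 _ ≫ X.homOfLE hWV := by
      rw [← cancel_mono V₂.ι, Category.assoc, Category.assoc, hs', Scheme.homOfLE_ι, Category.id_comp]
    refine ⟨W, hW, hWV, (isPullback_toP1 (X.homOfLE hWV)).lift s (𝟙 _) hs'', IsPullback.lift_snd _ _ _ _, ?_⟩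
    rw [IsPullback.lift_fst_assoc, reassoc_of% hs, hagree]
  obtain ⟨Wa, hWa, hlea, sa, hsa, hsa'⟩ := hsec a ha
  obtain ⟨Wb, hWb, hleb, sb, hsb, hsb'⟩ := hsec b hb
  obtain ⟨W, hWaff, hηW, hWle⟩ := exists_isAffineOpen_mem_and_subset (x := η) (U := Wa ⊓ Wb) ⟨hWa, hWb⟩
  haveI : IsAffine W.toScheme := hWaff
  haveI : Nonempty W.toScheme := ⟨⟨η, hηW⟩⟩
  have hWV₂ : W ≤ V₂ := (fun x hx => hlea (hWle hx).1)
  haveI : Smooth (W.ι ≫ f) := by
    rw [← X.homOfLE_ι (hWV₂.trans (hle₂.trans hle₁)), Category.assoc]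
    infer_instance
  have restrict : ∀ (W' : X.Opens) (hW' : η ∈ W') (hle : W ≤ W') (hWV' : W' ≤ V₂)
      (s : W'.toScheme ⟶ CohB1.ProjSpaceOver 1 W'.toScheme),
      s ≫ CohB1.ProjSpaceOver.toBase 1 W'.toScheme = 𝟙 _ →
      ∃ r : W.toScheme ⟶ CohB1.ProjSpaceOver 1 W.toScheme, r ≫ CohB1.ProjSpaceOver.toBase 1 W.toScheme = 𝟙 _ ∧
        W.fromSpecStalkOfMem η hηW ≫ r ≫ P1.toP1 (X.homOfLE hWV₂) ≫ G =
          W'.fromSpecStalkOfMem η hW' ≫ s ≫ P1.toP1 (X.homOfLE hWV') ≫ G := by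
    intro W' hW' hle hWV' s hs
    have e : (X.homOfLE hle ≫ s) ≫ CohB1.ProjSpaceOver.toBase 1 W'.toScheme = 𝟙 _ ≫ X.homOfLE hle := by
      rw [Category.assoc, hs, Category.comp_id, Category.id_comp]
    refine ⟨(isPullback_toP1 (X.homOfLE hle)).lift (X.homOfLE hle ≫ s) (𝟙 _) e, IsPullback.lift_snd _ _ _ _, ?_⟩
    rw [← Scheme.homOfLE_homOfLE _ hle hWV', toP1_comp, Category.assoc, IsPullback.lift_fst_assoc,
      Category.assoc, reassoc_of% fromSpecStalkOfMem_homOfLE hle hηW]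
  obtain ⟨ra, hra, hra'⟩ := restrict Wa hWa (fun x hx => (hWle hx).1) hlea sa hsa
  obtain ⟨rb, hrb, hrb'⟩ := restrict Wb hWb (fun x hx => (hWle hx).2) hleb sb hsb
  let GW : CohB1.ProjSpaceOver 1 W.toScheme ⟶ X := P1.toP1 (X.homOfLE hWV₂) ≫ G
  have hGW : GW ≫ f = CohB1.ProjSpaceOver.toBase 1 W.toScheme ≫ W.ι ≫ f := by
    show (_ ≫ G) ≫ f = _
    rw [Category.assoc, hG, reassoc_of% toP1_toBase, Scheme.homOfLE_ι_assoc]
  have hα : (ra ≫ GW) ≫ f = W.ι ≫ f := by rw [Category.assoc, hGW, reassoc_of% hra]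
  have hβ : (rb ≫ GW) ≫ f = W.ι ≫ f := by rw [Category.assoc, hGW, reassoc_of% hrb]
  refine ⟨W, hηW, ra ≫ GW, rb ≫ GW, hα, hβ, hra'.trans (hsa'.trans rfl'), hrb'.trans (hsb'.trans rfl''), fun t => ?_⟩
  have key := map_section_eq Φ hΦ W.toScheme (W.ι ≫ f) ra rb hra hrb
    (Φ.map (Over.homMk GW hGW : Over.mk (CohB1.ProjSpaceOver.toBase 1 W.toScheme ≫ W.ι ≫ f) ⟶ Over.mk f).op t)
  rw [← ConcreteCategory.comp_apply, ← Functor.map_comp, ← op_comp,
    ← ConcreteCategory.comp_apply, ← Functor.map_comp, ← op_comp] at key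
  exact key

include hΦ in
/-- The main theorem. -/
theorem exists_open_range_eq (hsm : ∃ V : X.Opens, (V : Set X).Nonempty ∧ Smooth (V.ι ≫ f))
    (hR : REq.IsAlmostRTrivial f) :
    ∃ U : X.Opens, (U : Set X).Nonempty ∧ Smooth (U.ι ≫ f) ∧
      Set.range (Φ.map (Over.homMk U.ι rfl : Over.mk (U.ι ≫ f) ⟶ Over.mk f).op) =
        Set.range (Φ.map (Over.homMk (U.ι ≫ f) (Category.comp_id _) :
          Over.mk (U.ι ≫ f) ⟶ Over.mk (𝟙 (Spec (CommRingCat.of k)))).op) := by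
  obtain ⟨V, hVne, hVsm⟩ := hsm
  obtain ⟨U₀, hU₀, hR⟩ := hR
  haveI := hVsm
  have hV : genericPoint X ∈ V := ((genericPoint_spec X).mem_open_set_iff V.isOpen).2 (by simpa using hVne)
  letI : Algebra k X.functionField := (Spec.preimage (X.fromSpecStalk (genericPoint X) ≫ f)).hom.toAlgebra
  have halg : X.fromSpecStalk (genericPoint X) ≫ f = REq.specMap k X.functionField :=
    (Spec.map_preimage (X.fromSpecStalk (genericPoint X) ≫ f)).symm
  have hU₀' : genericPoint X ∈ U₀ :=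
    ((genericPoint_spec X).mem_open_set_iff U₀.isOpen).2 (by simpa using hU₀.nonempty)
  obtain ⟨x₀, hx₀⟩ := (hR k).1
  let P₁ : REq.Pts f X.functionField := ⟨X.fromSpecStalk (genericPoint X), halg⟩
  let P₀ : REq.Pts f X.functionField := ⟨REq.specMap k X.functionField ≫ x₀.1, by
    rw [Category.assoc, x₀.2]
    show _ ≫ Spec.map (CommRingCat.ofHom (algebraMap k k)) = _
    simp [REq.specMap]⟩
  have h₁ : REq.InOpen f U₀ P₁ := by
    rintro _ ⟨z, rfl⟩
    show (X.fromSpecStalk (genericPoint X)) z ∈ U₀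
    rw [Subsingleton.elim z (closedPoint _), Scheme.fromSpecStalk_closedPoint]
    exact hU₀'
  have h₀ : REq.InOpen f U₀ P₀ := by
    rintro _ ⟨z, rfl⟩
    exact hx₀ ⟨(REq.specMap k X.functionField) z, rfl⟩
  have hlink := (hR X.functionField).2 P₁ P₀ h₁ h₀
  have hsame : ∀ A B : REq.Pts f X.functionField, REq.REquiv f X.functionField A B → SameImage Φ f A.1 B.1 := by
    intro A B hAB
    induction hAB with
    | rel A B h => exact sameImage_of_elemLink Φ f hΦ halg hV A B h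
    | refl A => exact sameImage_refl Φ f A.1 (A.2.trans halg.symm)
    | symm A B _ ih => exact sameImage_symm Φ f ih
    | trans A B C _ _ ih ih' => exact sameImage_trans Φ f ih ih'
  obtain ⟨W, hW, α, β, hα, hβ, hαη, hβη, hαβ⟩ := hsame _ _ hlink
  obtain ⟨W₁, hle₁, hm₁, he₁⟩ := exists_le_of_fromSpecStalkOfMem_eq f hW α W.ι hα
    (hαη.trans (Scheme.Opens.fromSpecStalkOfMem_ι W _ hW).symm)
  let γ : W.toScheme ⟶ X := W.ι ≫ f ≫ x₀.1
  have hx₀f : x₀.1 ≫ f = 𝟙 (Spec (CommRingCat.of k)) := by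
    rw [x₀.2]
    show Spec.map (CommRingCat.ofHom (algebraMap k k)) = _
    simp
  have hγ : γ ≫ f = W.ι ≫ f := by simp [γ, hx₀f]
  obtain ⟨W₂, hle₂, hm₂, he₂⟩ := exists_le_of_fromSpecStalkOfMem_eq f hW β γ (hβ.trans hγ.symm)
    (hβη.trans (by simp [γ, P₀, Scheme.Opens.fromSpecStalkOfMem_ι_assoc, reassoc_of% halg]))
  let U : X.Opens := W₁ ⊓ W₂ ⊓ V
  haveI : Smooth (U.ι ≫ f) := by
    rw [← X.homOfLE_ι (inf_le_right : U ≤ V), Category.assoc]
    infer_instance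
  refine ⟨U, ⟨_, ⟨hm₁, hm₂⟩, hV⟩, ‹_›, Set.ext fun y => ⟨?_, ?_⟩⟩
  · rintro ⟨t, rfl⟩
    refine ⟨Φ.map (Over.homMk x₀.1 hx₀f : Over.mk (𝟙 (Spec (CommRingCat.of k))) ⟶ Over.mk f).op t, ?_⟩
    have hUW : U ≤ W := fun x hx => hle₁ hx.1.1
    have e₁ : X.homOfLE hUW ≫ α = U.ι := by
      rw [← Scheme.homOfLE_homOfLE _ (inf_le_left.trans inf_le_left : U ≤ W₁) hle₁, Category.assoc, he₁]
      simp [U]
    have e₂ : X.homOfLE hUW ≫ β = U.ι ≫ f ≫ x₀.1 := by
      rw [← Scheme.homOfLE_homOfLE _ (inf_le_left.trans inf_le_right : U ≤ W₂) hle₂, Category.assoc, he₂]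
      simp [γ, U]
    rw [map_restrict Φ f hUW α hα U.ι rfl e₁ t, hαβ t, ← map_restrict Φ f hUW β hβ (U.ι ≫ f ≫ x₀.1)
      (by simp [hx₀f]) e₂ t, ← ConcreteCategory.comp_apply, ← Functor.map_comp, ← op_comp]
    congr 4
  · rintro ⟨t, rfl⟩
    refine ⟨Φ.map (Over.homMk f (Category.comp_id _) : Over.mk f ⟶ Over.mk (𝟙 (Spec (CommRingCat.of k)))).op t, ?_⟩
    rw [← ConcreteCategory.comp_apply, ← Functor.map_comp, ← op_comp]
    rfl

end Groth.Agent.REqLib
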